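import Groth.Agent.FFun.GoodM
import Groth.Agent.Snapper.DimVanish
import Groth.Agent.FibDim.Semicont
import Groth.Agent.S0002
import Mathlib.RingTheory.Nakayama

/-!
# Cohomology vanishes above the dimension of the closed fibres
-/

set_option linter.style.haveILetI false
set_option linter.unusedSectionVars false
set_option backward.isDefEq.respectTransparency false
set_option backward.isDefEq.respectTransparency.types false

universe u

open CategoryTheory CategoryTheory.Limits AlgebraicGeometry TopologicalSpace Opposite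
open Groth.Agent.PnCoh.Finite (mapLin)

noncomputable section

namespace Groth.Agent.FibVan

open Groth.Agent Groth.Agent.FFun

variable {A : Type u} [CommRing A] {X : Scheme.{u}} [X.Over (Spec (CommRingCat.of A))]

/-- A quotient by an ideal of the base is supported over the zero set of the ideal. -/
theorem support_modJ_subset {M : X.Modules} (hM : Coh.IsCoh M) (J : Ideal A) (x : X)
    (hx : x ∈ CohB1.support (modJ J M)) :
    J ≤ ((X ↘ Spec (CommRingCat.of A)) x).asIdeal := by
  intro a ha
  by_contra hna
  obtain ⟨_, ⟨U, hU, rfl⟩, hxU, -⟩ :=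
    X.isBasis_affineOpens.exists_subset_of_mem_open (Set.mem_univ x) isOpen_univ
  refine (QCoh.notMem_support_iff (isCoh_modJ J hM).1 hU hxU).2 (fun m => ⟨φsec (A := A) U a, ?_, ?_⟩) hx
  · have hb : x ∈ X.basicOpen (Coh.toGlobal (X ↘ Spec (CommRingCat.of A)) a) := by
      show x ∈ X.basicOpen ((X ↘ Spec (CommRingCat.of A)).appTop
        ((Scheme.ΓSpecIso (CommRingCat.of A)).inv a))
      rw [← Scheme.preimage_basicOpen_top, AlgebraicGeometry.basicOpen_eq_of_affine]
      exact hna
    show x ∈ X.basicOpen (X.presheaf.map (homOfLE (le_top : U ≤ ⊤)).op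
      (Coh.toGlobal (X ↘ Spec (CommRingCat.of A)) a))
    rw [Scheme.basicOpen_res]
    exact ⟨hxU, hb⟩
  · show (show Γ(X, U) from φsec U a) • m = 0
    refine (smulMod_app (modJ J M) a U m).symm.trans ?_
    rw [mem_killIdeal.1 (le_killIdeal_modJ J M ha)]
    rfl

/-- Cohomology of a coherent module on a proper scheme over a Noetherian ring vanishes above the
dimension of the closed fibres. -/
theorem subsingleton_HH_of_closed_fibre_dim [IsNoetherianRing A] [IsProper (X ↘ Spec (CommRingCat.of A))]
    {M : X.Modules} (hM : Coh.IsCoh M) {d p : ℕ} (hp : d < p)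
    (hd : ∀ z : Spec (CommRingCat.of A), IsClosed ({z} : Set _) →
      topologicalKrullDim ↥((X ↘ Spec (CommRingCat.of A)) ⁻¹' {z}) ≤ d) :
    Subsingleton (Coh.HH X M p) := by
  haveI : CompactSpace X := QuasiCompact.compactSpace_of_compactSpace (X ↘ Spec (CommRingCat.of A))
  haveI : IsLocallyNoetherian X := LocallyOfFiniteType.isLocallyNoetherian (X ↘ Spec (CommRingCat.of A))
  haveI : IsNoetherian X := { __ := ‹IsLocallyNoetherian X›, __ := ‹CompactSpace X› }
  haveI : X.IsSeparated := ⟨by
    rw [← terminal.comp_from (X ↘ Spec (CommRingCat.of A))]; infer_instance⟩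
  haveI hfin : Module.Finite A (Coh.HH X M p) := Groth.Agent.S0002.result A X M hM p
  have key : ∀ m : Ideal A, m.IsMaximal → (⊤ : Submodule A (Coh.HH X M p)) ≤ m • ⊤ := fun m hm x _ => by
    obtain ⟨k, hk⟩ := (goodM_of_finite hM (fun q => Groth.Agent.S0002.result A X M hM q) m p).1 1
    rw [← pow_one m]
    refine hk x ?_
    let z : Spec (CommRingCat.of A) := ⟨m, hm.isPrime⟩
    have hz : IsClosed ({z} : Set (Spec (CommRingCat.of A))) :=
      (PrimeSpectrum.isClosed_singleton_iff_isMaximal z).2 hm
    let C : Closeds X := ⟨(X ↘ Spec (CommRingCat.of A)) ⁻¹' {z}, hz.preimage (Scheme.Hom.continuous _)⟩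
    haveI := Snapper.subsingleton_HH_of_dim_lt (d + 1) C
      (lt_of_le_of_lt (hd z hz) (by exact_mod_cast Nat.lt_succ_self d))
      (modJ (m ^ k) M) (isCoh_modJ _ hM).1 (fun y hy => ?_) p hp
    · exact Subsingleton.elim _ _
    · have h1 := Ideal.IsPrime.le_of_pow_le (support_modJ_subset hM (m ^ k) y hy)
      exact PrimeSpectrum.ext (hm.eq_of_le ((X ↘ Spec (CommRingCat.of A)) y).isPrime.ne_top h1).symm
  have hann : Module.annihilator A (Coh.HH X M p) = ⊤ := by
    by_contra hne
    obtain ⟨m, hm, hle⟩ := Ideal.exists_le_maximal _ hne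
    obtain ⟨r, hr1, hr⟩ := Submodule.exists_sub_one_mem_and_smul_eq_zero_of_fg_of_le_smul m
      (⊤ : Submodule A (Coh.HH X M p)) Module.Finite.fg_top (key m hm)
    have hrm : r ∈ m := hle (Module.mem_annihilator.2 fun v => hr v trivial)
    exact hm.ne_top ((Ideal.eq_top_iff_one m).2 (by simpa using sub_mem hrm hr1))
  refine subsingleton_of_forall_eq 0 fun x => ?_
  rw [← one_smul A x]
  exact Module.mem_annihilator.1 (hann ▸ Submodule.mem_top) x

end Groth.Agent.FibVan
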